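import Cfsg.Agent.Schur.Monomial

/-!
Permutations of `Fin n` from packed tables, and subgroups generated by two of their words.
-/

set_option autoImplicit false

namespace CfsgLib.Schur.PackedPerm

open CfsgLib.CosetEnum

variable (n : ℕ) (fwd bwd : List ℕ)

/-- The image of a point under a letter. -/
def img (x i : ℕ) : ℕ := Monomial.word16 (fwd.getD x 0) i

/-- The image of a point under a word. -/
def act : List ℕ → ℕ → ℕ
  | [], i => i
  | x :: w, i => img fwd x (act w i)

/-- The tables are mutually inverse bijections. -/
def tablesOK : Bool :=
  (List.range fwd.length).all fun x => (List.range n).all fun i =>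
    (decide (img fwd x i < n) && decide (img bwd x i < n)) &&
      (img bwd x (img fwd x i) == i && img fwd x (img bwd x i) == i)

variable {n fwd bwd} (h : tablesOK n fwd bwd = true)
include h

theorem table_spec {x : ℕ} (hx : x < fwd.length) (i : Fin n) :
    img fwd x i < n ∧ img bwd x i < n ∧ img bwd x (img fwd x i) = i ∧
      img fwd x (img bwd x i) = i := by
  simp only [tablesOK, Bool.and_eq_true, List.all_eq_true, List.mem_range, decide_eq_true_eq,
    beq_iff_eq] at h
  obtain ⟨⟨h1, h2⟩, h3, h4⟩ := h x hx i i.2
  exact ⟨h1, h2, h3, h4⟩

/-- A letter as a permutation. -/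
def toPerm (x : ℕ) : Equiv.Perm (Fin n) :=
  if hx : x < fwd.length then
    { toFun := fun i => ⟨img fwd x i, (table_spec h hx i).1⟩
      invFun := fun i => ⟨img bwd x i, (table_spec h hx i).2.1⟩
      left_inv := fun i => Fin.ext (table_spec h hx i).2.2.1
      right_inv := fun i => Fin.ext (table_spec h hx i).2.2.2 }
  else 1

theorem word_apply {w : List ℕ} (hw : w.all (fun x => decide (x < fwd.length)) = true) (i : Fin n) :
    ((gword (toPerm h) w) i).val = act fwd w i := by
  induction w with
  | nil => rfl
  | cons x w ih =>
    simp only [List.all_cons, Bool.and_eq_true, decide_eq_true_eq] at hw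
    rw [gword_cons, Equiv.Perm.mul_apply, act, ← ih hw.2, toPerm, dif_pos hw.1]
    rfl

theorem word_eq {u w : List ℕ} (hu : u.all (fun x => decide (x < fwd.length)) = true)
    (hw : w.all (fun x => decide (x < fwd.length)) = true)
    (he : (List.range n).all (fun i => act fwd u i == act fwd w i) = true) :
    gword (toPerm h) u = gword (toPerm h) w := by
  simp only [List.all_eq_true (l := List.range n), List.mem_range, beq_iff_eq] at he
  exact Equiv.ext fun i => Fin.ext (by rw [word_apply h hu, word_apply h hw, he i i.2])

omit h

theorem gword_concat {G : Type*} [Group G] (g : ℕ → G) (u w : List ℕ) :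
    gword g (u ++ w) = gword g u * gword g w := by
  simp [gword]

/-- Words in two letters replaced by two words. -/
def subst (a b : List ℕ) (w : List ℕ) : List ℕ := w.flatMap fun k => if k = 0 then a else b

theorem gword_subst {G : Type*} [Group G] (g : ℕ → G) (a b : List ℕ) (w : List ℕ) :
    gword g (subst a b w) = gword (fun k => if k = 0 then gword g a else gword g b) w := by
  induction w with
  | nil => rfl
  | cons k w ih =>
    rw [gword_cons, ← ih, subst, List.flatMap_cons, gword_concat]
    split_ifs <;> rfl

variable (n fwd)

/-- The code of a word at base points. -/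
def codeW (base : List ℕ) (w : List ℕ) : ℕ :=
  base.foldr (fun b s => act fwd w b + 65536 * s) 0

/-- The words in two words give the elements of a subgroup generated by them. -/
def spanOK (a b : List ℕ) (base : List ℕ) (ws : List (List ℕ)) (next : List (ℕ × ℕ)) : Bool :=
  a.all (fun x => decide (x < fwd.length)) && b.all (fun x => decide (x < fwd.length)) &&
    ws.all (fun w => w.all fun k => decide (k < 2)) && base.all (fun c => decide (c < n)) &&
    ((List.range (ws.length - 1)).all fun i =>
      decide (codeW fwd base (subst a b (ws.getD i [])) <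
        codeW fwd base (subst a b (ws.getD (i + 1) [])))) &&
    ws.contains [] &&
    (List.range ws.length).all fun i =>
      decide ((next.getD i (0, 0)).1 < ws.length) && decide ((next.getD i (0, 0)).2 < ws.length) &&
      (List.range n).all fun p =>
        act fwd (a ++ subst a b (ws.getD i [])) p ==
            act fwd (subst a b (ws.getD (next.getD i (0, 0)).1 [])) p &&
          act fwd (b ++ subst a b (ws.getD i [])) p ==
            act fwd (subst a b (ws.getD (next.getD i (0, 0)).2 [])) p

variable {n fwd}

theorem card_span (h : tablesOK n fwd bwd = true) {a b base : List ℕ} {ws : List (List ℕ)}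
    {next : List (ℕ × ℕ)} (hs : spanOK n fwd a b base ws next = true) :
    Nat.card (Subgroup.closure {gword (toPerm h) a, gword (toPerm h) b}) = ws.length := by
  simp only [spanOK, Bool.and_eq_true, List.all_eq_true, decide_eq_true_eq, List.mem_range,
    List.contains_iff_mem, beq_iff_eq] at hs
  obtain ⟨⟨⟨⟨⟨⟨ha, hb⟩, hw⟩, hbase⟩, hmono⟩, hnil⟩, hnext⟩ := hs
  set A := gword (toPerm h) a with hA
  set B := gword (toPerm h) b with hB
  let el : Fin ws.length → Equiv.Perm (Fin n) := fun i =>
    gword (toPerm h) (subst a b (ws.getD i []))
  have hget : ∀ i : Fin ws.length, ws.getD i [] ∈ ws := fun i => by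
    rw [List.getD_eq_getElem _ _ i.2]; exact List.getElem_mem _
  have hall : ∀ i : Fin ws.length,
      (subst a b (ws.getD i [])).all (fun x => decide (x < fwd.length)) = true := by
    intro i
    refine List.all_eq_true.2 fun x hx => decide_eq_true ?_
    obtain ⟨k, -, hxk⟩ := List.mem_flatMap.1 hx
    split_ifs at hxk
    exacts [ha x hxk, hb x hxk]
  have hmem : ∀ i, el i ∈ Subgroup.closure {A, B} := fun i => by
    show gword (toPerm h) _ ∈ _
    rw [gword_subst]
    refine gword_mem _ _ fun k hk => ?_
    split_ifs
    exacts [Subgroup.subset_closure (Set.mem_insert _ _),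
      Subgroup.subset_closure (Set.mem_insert_of_mem _ rfl)]
  have hinj : Function.Injective el := by
    intro i j hij
    let code : ℕ → ℕ := fun i => codeW fwd base (subst a b (ws.getD i []))
    have hlt : ∀ i j : Fin ws.length, i < j → code i.val < code j.val := by
      intro i j hij'
      have : ∀ d, i.val + d + 1 < ws.length → code i.val < code (i.val + d + 1) := by
        intro d
        induction d with
        | zero => intro h'; exact hmono i.val (by omega)
        | succ d ih =>
          intro h'
          exact (ih (by omega)).trans (hmono (i.val + d + 1) (by omega))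
      have hij'' : i.val < j.val := hij'
      have := this (j.val - i.val - 1) (by omega)
      rwa [show i.val + (j.val - i.val - 1) + 1 = j.val by omega] at this
    have e : code i.val = code j.val := by
      refine List.foldr_ext _ _ _ fun c hc s => ?_
      have e1 := word_apply h (hall i) ⟨c, hbase c hc⟩
      have e2 := word_apply h (hall j) ⟨c, hbase c hc⟩
      rw [show gword (toPerm h) (subst a b (ws.getD i [])) =
        gword (toPerm h) (subst a b (ws.getD j [])) from hij, e2] at e1
      simp only at e1
      rw [e1]
    rcases lt_trichotomy i j with h' | h' | h'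
    · exact absurd e (hlt i j h').ne
    · exact h'
    · exact absurd e.symm (hlt j i h').ne
  have hclosed : ∀ i, (∃ j, A * el i = el j) ∧ ∃ j, B * el i = el j := by
    intro i
    obtain ⟨⟨l1, l2⟩, hp⟩ := hnext i i.2
    refine ⟨⟨⟨_, l1⟩, ?_⟩, ⟨⟨_, l2⟩, ?_⟩⟩ <;>
      (simp only [el, hA, hB, ← gword_concat]
       refine word_eq h ?_ (hall ⟨_, by assumption⟩) ?_
       · rw [List.all_append, hall i, Bool.and_true]
         exact List.all_eq_true.2 fun x hx => decide_eq_true (by
           first | exact ha x hx | exact hb x hx)
       · exact List.all_eq_true.2 fun p hp' => beq_iff_eq.2 (by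
           first | exact (hp p (List.mem_range.1 hp')).1 | exact (hp p (List.mem_range.1 hp')).2))
  have hset : (Subgroup.closure {A, B} : Set (Equiv.Perm (Fin n))) = Set.range el := by
    refine Set.Subset.antisymm (fun g hg => ?_) (Set.range_subset_iff.2 hmem)
    have h1 : (1 : Equiv.Perm (Fin n)) ∈ Set.range el := by
      obtain ⟨i, hi, hi'⟩ := List.mem_iff_getElem.1 hnil
      refine ⟨⟨i, hi⟩, ?_⟩
      show gword (toPerm h) _ = 1
      rw [List.getD_eq_getElem _ _ hi, hi']
      rfl
    have hgen : ∀ g ∈ Subgroup.closure {A, B}, ∀ x ∈ Set.range el, g * x ∈ Set.range el := by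
      intro g hg
      refine Subgroup.closure_induction (p := fun g _ => ∀ x ∈ Set.range el, g * x ∈ Set.range el)
        ?_ (fun x hx => by rwa [one_mul]) ?_ ?_ hg
      · rintro g (rfl | rfl) x ⟨i, rfl⟩
        · obtain ⟨j, hj⟩ := (hclosed i).1; exact ⟨j, hj.symm⟩
        · obtain ⟨j, hj⟩ := (hclosed i).2; exact ⟨j, hj.symm⟩
      · intro u v _ _ hu hv x hx
        rw [mul_assoc]; exact hu _ (hv x hx)
      · intro u _ hu x hx
        have hfin : (Set.range el).Finite := Set.finite_range _
        have : (fun y => u * y) '' Set.range el = Set.range el :=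
          Set.eq_of_subset_of_ncard_le (Set.image_subset_iff.2 hu)
            (Set.ncard_image_of_injective _ (mul_right_injective u)).ge hfin
        obtain ⟨y, hy, hyx⟩ := this.symm ▸ hx
        rw [← hyx, inv_mul_cancel_left]; exact hy
    simpa using hgen g hg 1 h1
  rw [show Nat.card (Subgroup.closure {A, B}) =
    (Subgroup.closure {A, B} : Set (Equiv.Perm (Fin n))).ncard from Nat.card_coe_set_eq _, hset,
    Set.ncard_range_of_injective hinj, Nat.card_fin]

end CfsgLib.Schur.PackedPerm
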