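import Cfsg.Agent.Schur.OddSwap

/-!
The `p`-part of a Schur multiplier for odd `p` when a Sylow `p`-subgroup is extraspecial of exponent `p`
and order `p ^ 3` and some element inverts two generators.
-/

set_option autoImplicit false

namespace CfsgLib.Schur.OddInvert

open Subgroup CfsgLib.Schur.ThreeGroups
open scoped commutatorElement

universe u v

variable {Γ : Type u} {G : Type v} [Group Γ] [Group G]

/-- An extraspecial Sylow subgroup of order `p ^ 3` with two generators inverted by an element. -/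
theorem not_dvd_of_invert {p : ℕ} [Fact p.Prime] [Finite Γ] {σ : Γ →* G}
    (hσ : Cfsg.IsStemExtension σ) (hp : p ≠ 2)
    (H : Subgroup G) (hidx : ¬ p ∣ H.index) {a b g : G} (hH : H ≤ closure {a, b}) (ha : a ^ p = 1)
    (hb : b ^ p = 1) (hca : Commute ⁅a, b⁆ a) (hcb : Commute ⁅a, b⁆ b) (hne : ⁅a, b⁆ ≠ 1)
    (hga : g * a * g⁻¹ = a⁻¹) (hgb : g * b * g⁻¹ = b⁻¹) : ¬ p ∣ Nat.card σ.ker := by
  obtain ⟨A, hA⟩ := hσ.1 a
  obtain ⟨B, hB⟩ := hσ.1 b
  obtain ⟨T, hT⟩ := hσ.1 g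
  have hK := hσ.2.1
  have hc3 : ⁅a, b⁆ ^ p = 1 := OddSwap.commutator_pow (by rw [ha]; exact one_mem _) hca hcb
  have hgc : g * ⁅a, b⁆ * g⁻¹ = ⁅a, b⁆ := by
    have e : ⁅a⁻¹, b⁻¹⁆ = a⁻¹ * b⁻¹ * ⁅a, b⁆ * (a⁻¹ * b⁻¹)⁻¹ := by
      simp only [commutatorElement_def]; group
    rw [show g * ⁅a, b⁆ * g⁻¹ = ⁅g * a * g⁻¹, g * b * g⁻¹⁆ by
      simp only [commutatorElement_def]; group, hga, hgb, e,
      ← (hca.inv_right.mul_right hcb.inv_right).eq, mul_inv_cancel_right]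
  set C := ⁅A, B⁆ with hCdef
  have hC : σ C = ⁅a, b⁆ := by rw [hCdef, map_commutatorElement, hA, hB]
  have lift : ∀ (X : Γ) (x : G), σ X = x → x ^ p = 1 → Commute ⁅a, b⁆ x → g * x * g⁻¹ = x⁻¹ →
      Commute C X := by
    intro X x hX hx3 hcx hgx
    have hk : ⁅C, X⁆ ∈ center Γ := hK (MonoidHom.mem_ker.2 (by
      rw [map_commutatorElement, hC, hX, commutatorElement_eq_one_iff_commute.2 hcx]))
    have h3 : ⁅C, X⁆ ^ p = 1 := OddSwap.commutator_pow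
      (hK (MonoidHom.mem_ker.2 (by rw [map_pow, hC, hc3]))) (mem_center_iff.1 hk C).symm
      (mem_center_iff.1 hk X).symm
    obtain ⟨u, hu, hu'⟩ : ∃ u ∈ center Γ, T * C * T⁻¹ = u * C :=
      ⟨T * C * T⁻¹ * C⁻¹, hK (MonoidHom.mem_ker.2 (by
        rw [map_mul, map_mul, map_mul, map_inv, map_inv, hC, hT, hgc, mul_inv_cancel])),
        (inv_mul_cancel_right _ _).symm⟩
    obtain ⟨w, hw, hw'⟩ : ∃ w ∈ center Γ, T * X * T⁻¹ = w * X⁻¹ :=
      ⟨T * X * T⁻¹ * X, hK (MonoidHom.mem_ker.2 (by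
        rw [map_mul, map_mul, map_mul, map_inv, hX, hT, hgx, inv_mul_cancel])),
        (mul_inv_cancel_right _ _).symm⟩
    have e : ⁅C, X⁻¹⁆ = ⁅C, X⁆⁻¹ := by
      rw [show ⁅C, X⁻¹⁆ = X⁻¹ * ⁅C, X⁆⁻¹ * X by simp only [commutatorElement_def]; group,
        mem_center_iff.1 (inv_mem hk) X⁻¹, inv_mul_cancel_right]
    have hk2 : ⁅C, X⁆ = ⁅C, X⁆⁻¹ := by
      calc ⁅C, X⁆ = T * ⁅C, X⁆ * T⁻¹ := by rw [mem_center_iff.1 hk T, mul_inv_cancel_right]
        _ = ⁅T * C * T⁻¹, T * X * T⁻¹⁆ := by simp only [commutatorElement_def]; group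
        _ = ⁅C, X⁆⁻¹ := by
            rw [hu', hw', commutator_mul_central_left hu, commutator_mul_central_right hw, e]
    have h2 : ⁅C, X⁆ ^ 2 = 1 := by
      rw [pow_two]; nth_rewrite 2 [hk2]; exact mul_inv_cancel _
    refine commutatorElement_eq_one_iff_commute.1 ?_
    obtain ⟨m, hm⟩ := (Fact.out : p.Prime).odd_of_ne_two hp
    rwa [hm, pow_succ, pow_mul, h2, one_pow, one_mul] at h3
  have hCA := lift A a hA ha hca hga
  have hCB := lift B b hB hb hcb hgb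
  have hC3 : C ^ p = 1 :=
    OddSwap.commutator_pow (hK (MonoidHom.mem_ker.2 (by rw [map_pow, hA, ha]))) hCA hCB
  refine not_dvd_card_ker hσ H hidx fun z hzK hz => ?_
  obtain ⟨i, rfl⟩ := commutator_le_zpowers_commutator σ.ker hK hCA hCB _
    (comap_le_closure σ H hH hA hB) hz
  have h1 : ⁅a, b⁆ ^ i = 1 := by rw [← hC, ← map_zpow]; exact MonoidHom.mem_ker.1 hzK
  rw [← orderOf_dvd_iff_zpow_eq_one, orderOf_eq_prime hc3 hne] at h1
  obtain ⟨j, rfl⟩ := h1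
  show C ^ (((p : ℕ) : ℤ) * j) = 1
  rw [zpow_mul, zpow_natCast, hC3, one_zpow]

end CfsgLib.Schur.OddInvert
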